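import Groth.Agent.L15.Frob.Sch
import Groth.Agent.L18.Quiet.Comp
import Groth.Agent.L19.NormalSections
import Groth.Agent.L06.SepDegFibre
import Groth.Prelude.Def_Pi1
import Mathlib.FieldTheory.PurelyInseparable.Basic
import Mathlib.FieldTheory.Perfect
import Mathlib.AlgebraicGeometry.FunctionField

/-!
# Factoring a power of Frobenius through a universal homeomorphism onto a normal scheme
-/

set_option autoImplicit false
set_option linter.style.haveILetI false
set_option backward.isDefEq.respectTransparency false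
set_option backward.isDefEq.respectTransparency.types false

universe u

open CategoryTheory CategoryTheory.Limits AlgebraicGeometry TopologicalSpace Opposite

noncomputable section

namespace Groth.L06.FrobFactor

variable (p : ℕ) [hp : Fact p.Prime]

section Iterate

variable (X : Scheme.{u}) [FrobSch.IsCharP X p]

/-- The iterated Frobenius. -/
abbrev Fn (n : ℕ) : X ⟶ X := (fun g : X ⟶ X => g ≫ FrobSch.frob X p)^[n] (𝟙 X)

theorem Fn_succ (n : ℕ) : Fn p X (n + 1) = Fn p X n ≫ FrobSch.frob X p :=
  Function.iterate_succ_apply' _ _ _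

theorem Fn_base (n : ℕ) : (Fn p X n).base = 𝟙 _ := by
  induction n with
  | zero => rfl
  | succ n ih => rw [Fn_succ, Scheme.Hom.comp_base, ih, FrobSch.frob_base, Category.comp_id]

theorem Fn_apply (n : ℕ) (x : X) : Fn p X n x = x := by
  show (Fn p X n).base x = x
  rw [Fn_base]; rfl

theorem Fn_preimage (n : ℕ) (U : X.Opens) : Fn p X n ⁻¹ᵁ U = U :=
  TopologicalSpace.Opens.ext (Set.ext fun x => by
    show Fn p X n x ∈ U ↔ x ∈ U
    rw [Fn_apply])

theorem germ_app_congr {f g : X ⟶ X} (h : f = g) (U : X.Opens) (x : X) (hf : x ∈ f ⁻¹ᵁ U)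
    (hg : x ∈ g ⁻¹ᵁ U) (s : Γ(X, U)) :
    X.presheaf.germ (f ⁻¹ᵁ U) x hf (f.app U s) = X.presheaf.germ (g ⁻¹ᵁ U) x hg (g.app U s) := by
  subst h; rfl

theorem germ_Fn (n : ℕ) (U : X.Opens) (x : X) (hx : x ∈ U) (hx' : x ∈ Fn p X n ⁻¹ᵁ U) (s : Γ(X, U)) :
    X.presheaf.germ (Fn p X n ⁻¹ᵁ U) x hx' ((Fn p X n).app U s) =
      (X.presheaf.germ U x hx s) ^ p ^ n := by
  induction n generalizing U s with
  | zero => rw [pow_zero, pow_one]; rfl
  | succ n ih =>
    have e := Scheme.Hom.comp_app (Fn p X n) (FrobSch.frob X p) U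
    have key : X.presheaf.germ ((Fn p X n ≫ FrobSch.frob X p) ⁻¹ᵁ U) x
        (by show FrobSch.frob X p (Fn p X n x) ∈ U; rw [FrobSch.frob_apply, Fn_apply]; exact hx)
        ((Fn p X n ≫ FrobSch.frob X p).app U s) = (X.presheaf.germ U x hx s) ^ p ^ (n + 1) := by
      rw [e, CommRingCat.comp_apply, FrobSch.frob_app]
      refine Eq.trans ?_ ((congrArg (· ^ p) (ih U hx (by rw [Fn_preimage]; exact hx) s)).trans
        (by rw [← pow_mul, pow_succ]))
      exact map_pow ((X.presheaf.germ (Fn p X n ⁻¹ᵁ U) x (by rw [Fn_preimage]; exact hx)).hom.comp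
        ((Fn p X n).app U).hom) s p
    exact (germ_app_congr (X := X) (Fn_succ p X n) U x _ _ s).trans key

instance (n : ℕ) : IsIntegralHom (Fn p X n) := by
  induction n with
  | zero => exact inferInstanceAs (IsIntegralHom (𝟙 X))
  | succ n ih =>
    rw [Fn_succ]
    haveI := Groth.L15.Frob.isIntegralHom_frob p X
    infer_instance

theorem isUnivHomeo_Fn : ∀ n : ℕ, FlatMor.IsUnivHomeo (Fn p X n)
  | 0 => (Groth.L20.isUnivHomeo_iff (𝟙 X)).mpr ⟨inferInstance, inferInstance, inferInstance⟩
  | n + 1 => by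
    rw [Fn_succ]
    exact Groth.L18.Quiet.isUnivHomeo_comp (isUnivHomeo_Fn n) (Groth.L15.Frob.isUnivHomeo_frob p X)

variable {X} {Y : Scheme.{u}} [FrobSch.IsCharP Y p]

theorem Fn_naturality (f : X ⟶ Y) : ∀ n : ℕ, Fn p X n ≫ f = f ≫ Fn p Y n
  | 0 => by simp [Fn]
  | n + 1 => by
    rw [Fn_succ, Fn_succ, Category.assoc, FrobSch.frob_comp, reassoc_of% Fn_naturality f n]

end Iterate

section Factor

variable {X Y : Scheme.{u}} [IsIntegral X] [IsIntegral Y] (u : X ⟶ Y) (e : u (genericPoint X) = genericPoint Y)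

/-- The map of function fields. -/
def ff : Y.functionField →+* X.functionField :=
  (Y.presheaf.stalkSpecializes (specializes_of_eq e) ≫ u.stalkMap (genericPoint X)).hom

theorem ff_germ (V : Y.Opens) (hV : genericPoint Y ∈ V) (hV' : genericPoint X ∈ u ⁻¹ᵁ V) (a : Γ(Y, V)) :
    ff u e (Y.presheaf.germ V (genericPoint Y) hV a) =
      X.presheaf.germ (u ⁻¹ᵁ V) (genericPoint X) hV' (u.app V a) := by
  show u.stalkMap (genericPoint X) (Y.presheaf.stalkSpecializes _ (Y.presheaf.germ V _ hV a)) = _
  rw [TopCat.Presheaf.germ_stalkSpecializes_apply, Scheme.Hom.germ_stalkMap_apply]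

theorem exists_degree [FrobSch.IsCharP Y p] (hu : FlatMor.IsUnivHomeo u) [LocallyOfFiniteType u] :
    ∃ n : ℕ, @Module.finrank Y.functionField X.functionField _ _ (ff u e).toAlgebra.toModule = p ^ n ∧
      ∀ x : X.functionField, x ^ p ^ n ∈ (ff u e).range := by
  letI := (ff u e).toAlgebra
  haveI := Groth.L20.isIntegralHom_of_isUnivHomeo hu
  haveI : IsFinite u := (IsFinite.iff_isIntegralHom_and_locallyOfFiniteType u).mpr ⟨‹_›, ‹_›⟩
  haveI : CharP Y.functionField p := (CharP.charP_iff_prime_eq_zero hp.out).2 (by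
    have := congrArg (Y.presheaf.germ ⊤ (genericPoint Y) trivial)
      (FrobSch.IsCharP.natCast_eq_zero (X := Y) (p := p))
    simpa using this)
  haveI : ExpChar Y.functionField p := ExpChar.prime hp.out
  let η := genericPoint X
  let rY : Y.functionField →+* Y.residueField (u η) :=
    (Y.presheaf.stalkSpecializes (specializes_of_eq e) ≫ Y.residue (u η)).hom
  let rX : X.functionField →+* X.residueField η := (X.residue η).hom
  have hrX : Function.Bijective rX :=
    ⟨RingHom.injective _, Scheme.residue_surjective (X := X) η⟩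
  have hrY : Function.Bijective rY :=
    ⟨RingHom.injective _, fun z => by
      obtain ⟨a, rfl⟩ := Scheme.residue_surjective (X := Y) (u η) z
      refine ⟨(Y.presheaf.stalkSpecializes (specializes_of_eq e.symm)) a, ?_⟩
      show Y.residue (u η) ((Y.presheaf.stalkSpecializes _) ((Y.presheaf.stalkSpecializes _) a)) = _
      rw [← CommRingCat.comp_apply (Y.presheaf.stalkSpecializes _) (Y.presheaf.stalkSpecializes _),
        TopCat.Presheaf.stalkSpecializes_comp, TopCat.Presheaf.stalkSpecializes_refl]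
      rfl⟩
  have hsq : rX.comp (ff u e) = (u.residueFieldMap η).hom.comp rY :=
    RingHom.ext fun a => rfl
  let eX := RingEquiv.ofBijective rX hrX
  let eY := RingEquiv.ofBijective rY hrY
  have hff : ff u e = eX.symm.toRingHom.comp ((u.residueFieldMap η).hom.comp eY.toRingHom) := by
    refine RingHom.ext fun a => eX.injective ?_
    show rX (ff u e a) = eX (eX.symm _)
    rw [RingEquiv.apply_symm_apply]
    exact RingHom.congr_fun hsq a
  have hfin : (ff u e).Finite := by
    rw [hff]
    exact (RingHom.Finite.of_surjective eX.symm.toRingHom eX.symm.surjective).comp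
      ((Groth.L06.SepDegFibre.finite_residueFieldMap u (u.quasiFiniteAt η)).comp
        (RingHom.Finite.of_surjective eY.toRingHom eY.surjective))
  haveI : Module.Finite Y.functionField X.functionField := hfin
  have hpi : (ff u e).IsPurelyInseparable := by
    have h0 := Groth.L15.Frob.isPurelyInseparable_residueFieldMap hu η
    rw [hff]
    letI := (u.residueFieldMap η).hom.toAlgebra
    letI := (eX.symm.toRingHom.comp ((u.residueFieldMap η).hom.comp eY.toRingHom)).toAlgebra
    haveI : IsPurelyInseparable (Y.residueField (u η)) (X.residueField η) := h0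
    haveI : ExpChar (Y.residueField (u η)) p := expChar_of_injective_ringHom (f := eY.toRingHom) eY.injective p
    show IsPurelyInseparable Y.functionField X.functionField
    rw [isPurelyInseparable_iff_pow_mem Y.functionField p]
    intro x
    obtain ⟨m, z, hz⟩ := IsPurelyInseparable.pow_mem (Y.residueField (u η)) p (eX x)
    refine ⟨m, eY.symm z, ?_⟩
    show eX.symm ((u.residueFieldMap η).hom (eY (eY.symm z))) = x ^ p ^ m
    rw [RingEquiv.apply_symm_apply, show (u.residueFieldMap η).hom z = eX x ^ p ^ m from hz, map_pow,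
      RingEquiv.symm_apply_apply]
  haveI : IsPurelyInseparable Y.functionField X.functionField := hpi
  obtain ⟨n, hn⟩ := IsPurelyInseparable.finrank_eq_pow X.functionField (F := Y.functionField) p
  refine ⟨n, hn, fun x => ?_⟩
  obtain ⟨m, y, hm⟩ := IsPurelyInseparable.minpoly_eq_X_pow_sub_C Y.functionField p x
  have hx : x ^ p ^ m = ff u e y := by
    have := minpoly.aeval Y.functionField x
    rw [hm, map_sub, map_pow, Polynomial.aeval_X, Polynomial.aeval_C, sub_eq_zero] at this
    exact this
  have hd : (minpoly Y.functionField x).natDegree ≤ p ^ n := hn ▸ minpoly.natDegree_le x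
  rw [hm, Polynomial.natDegree_X_pow_sub_C] at hd
  obtain ⟨c, rfl⟩ := Nat.exists_eq_add_of_le ((Nat.pow_le_pow_iff_right hp.out.one_lt).mp hd)
  exact ⟨y ^ p ^ c, by rw [map_pow, ← hx, ← pow_mul, ← pow_add]⟩

variable (hu : FlatMor.IsUnivHomeo u)

theorem genericPoint_mem (V : Y.Opens) [h : Nonempty V] : genericPoint Y ∈ V :=
  ((genericPoint_spec Y).mem_open_set_iff V.2).mpr (by simpa using h)

include e hu in
theorem app_injective (V : Y.Opens) : Function.Injective (u.app V) := by
  rcases isEmpty_or_nonempty V with hV | hV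
  · intro a b _
    haveI : Subsingleton Γ(Y, V) := by
      have : V = ⊥ := TopologicalSpace.Opens.ext (Set.eq_empty_iff_forall_notMem.mpr fun y hy => hV.elim ⟨y, hy⟩)
      subst this
      infer_instance
    exact Subsingleton.elim _ _
  · intro a b h
    have hη := genericPoint_mem (Y := Y) V
    have hη' : genericPoint X ∈ u ⁻¹ᵁ V := by show u _ ∈ V; rw [e]; exact hη
    apply germ_injective_of_isIntegral Y (genericPoint Y) hη
    apply (ff u e).injective
    rw [ff_germ u e V hη hη', ff_germ u e V hη hη', h]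

include e hu in
/-- Sections with powers in the smaller function field come from below. -/
theorem exists_app_eq_pow (hY : Pi1.IsNormalScheme Y) (n : ℕ)
    (hn : ∀ x : X.functionField, x ^ p ^ n ∈ (ff u e).range) (V : Y.Opens) (b : Γ(X, u ⁻¹ᵁ V)) :
    ∃ a : Γ(Y, V), u.app V a = b ^ p ^ n := by
  haveI := Groth.L20.isIntegralHom_of_isUnivHomeo hu
  have loc : ∀ y : V, ∃ (W : Y.Opens) (_ : y.1 ∈ W) (hW : W ≤ V) (a : Γ(Y, W)),
      u.app W a = (X.presheaf.map (homOfLE (u.preimage_mono hW)).op b) ^ p ^ n := by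
    rintro ⟨y, hy⟩
    obtain ⟨W, hW, hyW, hWV⟩ := exists_isAffineOpen_mem_and_subset hy
    haveI : Nonempty W := ⟨⟨y, hyW⟩⟩
    have hη := genericPoint_mem (Y := Y) W
    have hη' : genericPoint X ∈ u ⁻¹ᵁ W := by show u _ ∈ W; rw [e]; exact hη
    let c : Γ(X, u ⁻¹ᵁ W) := X.presheaf.map (homOfLE (u.preimage_mono hWV)).op b
    let g := (X.presheaf.germ (u ⁻¹ᵁ W) (genericPoint X) hη').hom
    obtain ⟨z, hz⟩ := hn (g c)
    obtain ⟨q, hq, hq'⟩ := IsIntegralHom.isIntegral_app u W hW (c ^ p ^ n)
    obtain ⟨a, ha⟩ := Groth.L19.NormalSec.exists_section_of_isIntegral (fun x => (hY x).2) W hη (RingHom.id _) z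
      ⟨q, hq, (ff u e).injective (by
        rw [map_zero, RingHom.comp_id, Polynomial.hom_eval₂, hz,
          show (ff u e).comp (Y.presheaf.germ W (genericPoint Y) hη).hom = g.comp (u.app W).hom from
            RingHom.ext (ff_germ u e W hη hη'),
          ← map_pow, ← Polynomial.hom_eval₂, hq', map_zero])⟩
    refine ⟨W, hyW, hWV, a, germ_injective_of_isIntegral X (genericPoint X) hη' ?_⟩
    rw [← ff_germ u e W hη hη', ha, hz, map_pow]
  choose W hyW hWV a ha using loc
  have hcompat : TopCat.Presheaf.IsCompatible Y.presheaf W a := fun i j => by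
    apply app_injective u e hu
    have key : ∀ (k : V) (hk : W i ⊓ W j ≤ W k),
        u.app (W i ⊓ W j) (Y.presheaf.map (homOfLE hk).op (a k)) =
          (X.presheaf.map (homOfLE (u.preimage_mono (hk.trans (hWV k)))).op b) ^ p ^ n := fun k hk => by
      rw [← CommRingCat.comp_apply, u.naturality, CommRingCat.comp_apply, ha, map_pow,
        ← CommRingCat.comp_apply, ← X.presheaf.map_comp]
      rfl
    exact (key i inf_le_left).trans (key j inf_le_right).symm
  obtain ⟨t, ht, -⟩ := TopCat.Sheaf.existsUnique_gluing' Y.sheaf W V (fun i => homOfLE (hWV i))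
    (fun y hy => Opens.mem_iSup.mpr ⟨⟨y, hy⟩, hyW ⟨y, hy⟩⟩) a hcompat
  refine ⟨t, ?_⟩
  refine TopCat.Sheaf.eq_of_locally_eq' X.sheaf (fun i => u ⁻¹ᵁ W i) (u ⁻¹ᵁ V)
    (fun i => homOfLE (u.preimage_mono (hWV i))) (fun x hx => Opens.mem_iSup.mpr ⟨⟨u x, hx⟩, hyW ⟨u x, hx⟩⟩)
    _ _ fun i => ?_
  show X.presheaf.map _ (u.app V t) = X.presheaf.map _ (b ^ p ^ n)
  rw [map_pow, ← ha i, ← ht i]
  exact (ConcreteCategory.congr_hom (u.naturality (homOfLE (hWV i)).op) t).symm

end Factor

end Groth.L06.FrobFactor
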