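import Groth.Agent.L06.FrobFactor.Basic
import Groth.Agent.L09.PerfBasic

/-!
# The inverse of a universal homeomorphism up to Frobenius
-/

set_option autoImplicit false
set_option linter.style.haveILetI false
set_option backward.isDefEq.respectTransparency false
set_option backward.isDefEq.respectTransparency.types false

universe u

open CategoryTheory CategoryTheory.Limits AlgebraicGeometry TopologicalSpace Opposite

noncomputable section

namespace Groth.L06.FrobFactor

variable (p : ℕ) [hp : Fact p.Prime] {X Y : Scheme.{u}} [IsIntegral X] [IsIntegral Y] (u : X ⟶ Y)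
  (e : u (genericPoint X) = genericPoint Y) (hu : FlatMor.IsUnivHomeo u)
  [FrobSch.IsCharP X p] [FrobSch.IsCharP Y p]

include e hu in
/-- A power of Frobenius factors through `u` from the other side. -/
theorem exists_inverse (hY : Pi1.IsNormalScheme Y) (n : ℕ)
    (hn : ∀ x : X.functionField, x ^ p ^ n ∈ (ff u e).range) :
    ∃ w : Y ⟶ X, u ≫ w = Fn p X n := by
  let H := (Groth.L20.isHomeomorph_of_isUnivHomeo hu).homeomorph
  have hH : ∀ x : X, H x = u x := fun _ => rfl
  let β : (Y : TopCat) ⟶ (X : TopCat) := TopCat.ofHom ⟨H.symm, H.symm.continuous⟩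
  let V : X.Opens → Y.Opens := fun U => (Opens.map β).obj U
  have hV : ∀ U : X.Opens, u ⁻¹ᵁ V U = U := fun U => TopologicalSpace.Opens.ext (Set.ext fun x => by
    show H.symm (u x) ∈ U ↔ x ∈ U
    rw [← hH, Homeomorph.symm_apply_apply])
  let r : ∀ U : X.Opens, Γ(X, U) →+* Γ(X, u ⁻¹ᵁ V U) := fun U =>
    (X.presheaf.map (eqToHom (hV U)).op).hom
  have inj := app_injective u e hu
  choose a ha using fun U b => exists_app_eq_pow p u e hu hY n hn (V U) (r U b)
  have hq : p ^ n ≠ 0 := pow_ne_zero _ hp.out.ne_zero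
  let f : ∀ U : X.Opens, Γ(X, U) →+* Γ(Y, V U) := fun U =>
    { toFun := a U
      map_one' := inj _ (by rw [ha, map_one, map_one, one_pow])
      map_mul' := fun b c => inj _ (by rw [ha, map_mul, map_mul, mul_pow, ha, ha])
      map_zero' := inj _ (by rw [ha, map_zero, map_zero, zero_pow hq])
      map_add' := fun b c => inj _ (by
        rw [ha, map_add, map_add, ha, ha]
        rcases subsingleton_or_nontrivial Γ(X, u ⁻¹ᵁ V U) with h | h
        · exact Subsingleton.elim _ _
        · haveI : CharP Γ(X, u ⁻¹ᵁ V U) p :=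
            (CharP.charP_iff_prime_eq_zero hp.out).2 (FrobSch.natCast_eq_zero_app X p _)
          exact add_pow_char_pow (r U b) (r U c) p n) }
  let g : X.toSheafedSpace.presheaf ⟶ β _* Y.toSheafedSpace.presheaf :=
    { app := fun U => CommRingCat.ofHom (f U.unop)
      naturality := fun U U' i => by
        ext b
        apply inj
        show u.app (V U'.unop) (a U'.unop (X.presheaf.map i b)) =
          u.app (V U'.unop) (Y.presheaf.map ((Opens.map β).op.map i) (a U.unop b))
        refine (ha _ _).trans (Eq.trans ?_ (ConcreteCategory.congr_hom (u.naturality ((Opens.map β).op.map i)) (a U.unop b)).symm)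
        show _ = X.presheaf.map _ (u.app (V U.unop) (a U.unop b))
        rw [ha, map_pow]
        congr 1
        show X.presheaf.map _ (X.presheaf.map i b) = X.presheaf.map _ (X.presheaf.map _ b)
        rw [← CommRingCat.comp_apply, ← CommRingCat.comp_apply, ← X.presheaf.map_comp, ← X.presheaf.map_comp]
        rfl }
  let wS : Y.toSheafedSpace ⟶ X.toSheafedSpace := InducedCategory.homMk { base := β, c := g }
  have hloc : ∀ y, IsLocalHom (wS.hom.stalkMap y).hom := fun y => by
    constructor
    intro t ht
    obtain ⟨U, hU, s, rfl⟩ := X.presheaf.exists_germ_eq (x := β y) t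
    have h := PresheafedSpace.stalkMap_germ_apply wS.hom U y hU s
    erw [h] at ht
    change IsUnit (Y.presheaf.germ (V U) y hU (a U s)) at ht
    let x := H.symm y
    have hx : u x = y := H.apply_symm_apply y
    have hxU : x ∈ u ⁻¹ᵁ V U := by rw [hV]; exact hU
    have ht' : IsUnit (X.presheaf.germ (u ⁻¹ᵁ V U) x hxU (u.app (V U) (a U s))) := by
      rw [← Scheme.Hom.germ_stalkMap_apply]
      refine IsUnit.map (u.stalkMap x).hom ?_
      have e2 : Y.presheaf.germ (V U) (u x) hxU (a U s) =
          Y.presheaf.stalkSpecializes (specializes_of_eq hx) (Y.presheaf.germ (V U) y hU (a U s)) :=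
        (TopCat.Presheaf.germ_stalkSpecializes_apply Y.presheaf hU (specializes_of_eq hx) _).symm
      rw [e2]
      exact ht.map _
    rw [ha, map_pow, isUnit_pow_iff hq] at ht'
    have e3 : X.presheaf.germ (u ⁻¹ᵁ V U) x hxU (r U s) = X.presheaf.germ U x hU s :=
      TopCat.Presheaf.germ_res_apply X.presheaf (eqToHom (hV U)) x hxU s
    rw [e3] at ht'
    exact ht'
  let w : Y ⟶ X := ⟨LocallyRingedSpace.homMk wS hloc⟩
  have hwa : ∀ (U : X.Opens) (b : Γ(X, U)), w.app U b = a U b := fun U b => rfl
  refine ⟨w, ?_⟩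
  have hb : (u ≫ w).base = (Fn p X n).base := by
    rw [Fn_base, Scheme.Hom.comp_base]
    ext x
    show H.symm (u x) = x
    rw [← hH, Homeomorph.symm_apply_apply]
  refine Scheme.Hom.ext hb fun U => ?_
  ext b
  refine TopCat.Presheaf.section_ext X.sheaf _ _ _ fun x hx => ?_
  have hxU : x ∈ U := by rwa [Fn_preimage] at hx
  have hxV : x ∈ u ⁻¹ᵁ V U := by rw [hV]; exact hxU
  refine Eq.trans ?_ (germ_Fn p X n U x hxU hx b).symm
  refine Eq.trans (TopCat.Presheaf.germ_res_apply X.presheaf _ x hx _) ?_
  show X.presheaf.germ (u ⁻¹ᵁ V U) x hxV (u.app (V U) (a U b)) = _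
  rw [ha, map_pow]
  exact congrArg (· ^ p ^ n) (TopCat.Presheaf.germ_res_apply X.presheaf (eqToHom (hV U)) x hxV b)

include hu in
/-- The inverse up to Frobenius is a universal homeomorphism. -/
theorem isUnivHomeo_inverse {n : ℕ} {w : Y ⟶ X} (hw : u ≫ w = Fn p X n) : FlatMor.IsUnivHomeo w :=
  Groth.L20.isUnivHomeo_of_comp_left (hw ▸ isUnivHomeo_Fn p X n) hu

/-- The iterated Frobenius of a perfect field is an isomorphism. -/
theorem isIso_Fn_Spec (k : Type u) [Field k] [CharP k p] [PerfectField k] :
    ∀ n : ℕ, IsIso (Fn p (Spec (CommRingCat.of k)) n)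
  | 0 => inferInstanceAs (IsIso (𝟙 _))
  | n + 1 => by
    rw [Fn_succ]
    haveI : ExpChar k p := ExpChar.prime hp.out
    haveI : PerfectRing k p := PerfectField.toPerfectRing p
    haveI : FrobSch.IsPerfect (Spec (CommRingCat.of k)) p :=
      Groth.L09.Perf.isPerfect_Spec p (CommRingCat.of k) (PerfectRing.bijective_frobenius (R := k) (p := p))
    haveI := isIso_Fn_Spec k n
    infer_instance

end Groth.L06.FrobFactor
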